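import Cfsg.Agent.Fischer891.Lin

set_option autoImplicit false

/-!
# S0480, piece (C): no Fischer space is locally `O^ε(2n, 2)`, `n ≥ 4`
-/

namespace Cfsg.Agent.Fischer891.OUp

open Cfsg Cfsg.Agent.Fischer480.Defs Cfsg.Agent.SporadicStructure.FischerSpace
open Cfsg.Agent.ThreeTransPolar.Basic Cfsg.Agent.Fischer891.Lin

variable {G : Type*} [Group G] {D : Set G}

/-- a chart of `O`-type, as in `IsO` -/
structure OChart (n : ℕ) (E : Set G) (Q : QuadraticForm (ZMod 2) (Fin (2 * n) → ZMod 2))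
    (f : G → Fin (2 * n) → ZMod 2) : Prop where
  nondeg : ∀ v, (∀ v', QuadraticMap.polar Q v v' = 0) → v = 0
  one : ∀ x ∈ E, Q (f x) = 1
  comm : ∀ x ∈ E, ∀ y ∈ E, (Commute x y ↔ QuadraticMap.polar Q (f x) (f y) = 0)
  inj : ∀ x ∈ E, ∀ y ∈ E, f x = f y → x = y
  surj : ∀ v, Q v = 1 → ∃ x ∈ E, f x = v

theorem isO_iff {n : ℕ} {E : Set G} : IsO n E ↔ ∃ Q f, OChart n E Q f := by
  constructor
  · rintro ⟨Q, f, h1, h2, h3, h4, h5⟩
    exact ⟨Q, f, h1, h2, h3, h4, h5⟩
  · rintro ⟨Q, f, h1, h2, h3, h4, h5⟩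
    exact ⟨Q, f, h1, h2, h3, h4, h5⟩

section Q

variable {n : ℕ} {Q : QuadraticForm (ZMod 2) (Fin (2 * n) → ZMod 2)}

theorem polar_symm (u v : Fin (2 * n) → ZMod 2) :
    QuadraticMap.polarBilin Q u v = QuadraticMap.polarBilin Q v u := by
  simp only [QuadraticMap.polarBilin_apply_apply]
  exact QuadraticMap.polar_comm Q u v

theorem q_add (u v : Fin (2 * n) → ZMod 2) : Q (u + v) = Q u + Q v + QuadraticMap.polarBilin Q u v := by
  simp only [QuadraticMap.polarBilin_apply_apply, QuadraticMap.polar]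
  ring

theorem q_zero : Q 0 = 0 := map_zero Q

theorem polar_self (u : Fin (2 * n) → ZMod 2) : QuadraticMap.polarBilin Q u u = 0 := by
  have h := q_add (Q := Q) u u
  rw [v_add_self, q_zero] at h
  have h2 := z2_add_self (Q u)
  rw [h2, zero_add] at h
  exact h.symm

end Q

namespace OChart

variable {n : ℕ} {E : Set G} {Q : QuadraticForm (ZMod 2) (Fin (2 * n) → ZMod 2)}
  {f : G → Fin (2 * n) → ZMod 2}

theorem polar_eq (C : OChart n E Q f) {x y : G} (hx : x ∈ E) (hy : y ∈ E) :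
    QuadraticMap.polarBilin Q (f x) (f y) = nc x y := by
  refine nc_eq_of ?_
  rw [QuadraticMap.polarBilin_apply_apply]
  exact C.comm x hx y hy

theorem nondeg' (C : OChart n E Q f) : ∀ v, (∀ u, QuadraticMap.polarBilin Q u v = 0) → v = 0 := by
  intro v hv
  refine C.nondeg v fun v' => ?_
  have := hv v'
  rw [polar_symm, QuadraticMap.polarBilin_apply_apply] at this
  exact this

end OChart

/-- transfer of linear relations from the chart at `x` to the chart at `e` -/
theorem transfer {n : ℕ} {x e : G} (hx : x ∈ D) (hxe : Commute x e)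
    (hne : e ≠ x) (he : e ∈ D)
    {Qx Qe : QuadraticForm (ZMod 2) (Fin (2 * n) → ZMod 2)} {fx fe : G → Fin (2 * n) → ZMod 2}
    (Cx : OChart n (Loc D x) Qx fx) (Ce : OChart n (Loc D e) Qe fe)
    {ι : Type*} (s : Finset ι) (z : ι → G) (hz : ∀ i ∈ s, z i ∈ Loc D x) (hz' : ∀ i ∈ s, z i ∈ Loc D e)
    {c : ZMod 2} (hs : ∑ i ∈ s, fx (z i) = c • fx e) :
    ∑ i ∈ s, fe (z i) = 0 ∨ ∑ i ∈ s, fe (z i) = fe x := by
  have hxe' : x ∈ Loc D e := ⟨hx, hne.symm, hxe.symm⟩
  have hex : e ∈ Loc D x := ⟨he, hne, hxe⟩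
  refine eq_zero_or_eq_of_perp (QuadraticMap.polarBilin Qe) Ce.nondeg' ?_
  have key : ∀ w ∈ Loc D e, w ≠ x → Commute w x →
      QuadraticMap.polarBilin Qe (fe w) (∑ i ∈ s, fe (z i)) = 0 := by
    intro w hw hwx hwc
    have hw' : w ∈ Loc D x := ⟨hw.1, hwx, hwc.symm⟩
    have h1 : QuadraticMap.polarBilin Qe (fe w) (∑ i ∈ s, fe (z i)) =
        QuadraticMap.polarBilin Qx (fx w) (∑ i ∈ s, fx (z i)) := by
      rw [map_sum, map_sum]
      refine Finset.sum_congr rfl fun i hi => ?_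
      rw [Ce.polar_eq hw (hz' i hi), Cx.polar_eq hw' (hz i hi)]
    rw [h1, hs, map_smul, Cx.polar_eq hw' hex, nc_eq_zero.2 hw.2.2.symm, smul_zero]
  have hzero : QuadraticMap.polarBilin Qe (fe x) (∑ i ∈ s, fe (z i)) = 0 := by
    rw [map_sum]
    refine Finset.sum_eq_zero fun i hi => ?_
    rw [Ce.polar_eq hxe' (hz' i hi)]
    exact nc_eq_zero.2 (hz i hi).2.2
  intro u hu
  by_cases h0 : u = 0
  · rw [h0]; simp
  by_cases h1 : u = fe x
  · rw [h1]; exact hzero
  rcases z2_cases (Qe u) with hq | hq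
  · have h2 : Qe (u + fe x) = 1 := by
      rw [q_add, hq, Ce.one x hxe', hu]; decide
    obtain ⟨w, hw, hfw⟩ := Ce.surj _ h2
    have hwx : w ≠ x := by
      rintro rfl
      apply h0
      have h3 : u + fe w + fe w = 0 := by rw [← hfw, v_add_self]
      rwa [add_assoc, v_add_self, add_zero] at h3
    have hwc : Commute w x := by
      rw [← nc_eq_zero, ← Ce.polar_eq hw hxe', hfw, map_add, LinearMap.add_apply, hu, polar_self,
        add_zero]
    have h4 := key w hw hwx hwc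
    rw [hfw, map_add, LinearMap.add_apply, hzero, add_zero] at h4
    exact h4
  · obtain ⟨w, hw, hfw⟩ := Ce.surj _ hq
    have hwx : w ≠ x := by
      rintro rfl
      exact h1 hfw.symm
    have hwc : Commute w x := by
      rw [← nc_eq_zero, ← Ce.polar_eq hw hxe', hfw, hu]
    rw [← hfw]
    exact key w hw hwx hwc

/-- **(C)** No Fischer space is locally `O^ε(2n, 2)` with `n ≥ 4`. -/
theorem not_locally_O (R : Rk D) {n : ℕ} (hn : 4 ≤ n) (hloc : ∀ x ∈ D, IsO n (Loc D x)) : False := by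
  obtain ⟨x, hx⟩ := R.fd.nonempty
  obtain ⟨a, ha, hxa⟩ := R.exCol x hx
  obtain ⟨e, he, hex, hea⟩ := exists_common R hx ha hxa
  obtain ⟨Qx, fx, Cx⟩ := isO_iff.1 (hloc x hx)
  obtain ⟨Qe, fe, Ce⟩ := isO_iff.1 (hloc e he)
  have hxne : x ≠ e := by
    rintro rfl
    exact hxa hea
  have hane : a ≠ e := by
    rintro rfl
    exact hxa hex.symm
  have hxLe : x ∈ Loc D e := ⟨hx, hxne, hex⟩
  have haLe : a ∈ Loc D e := ⟨ha, hane, hea⟩
  have heLx : e ∈ Loc D x := ⟨he, hxne.symm, hex.symm⟩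
  have hxaB : QuadraticMap.polarBilin Qe (fe x) (fe a) = 1 := by
    rw [Ce.polar_eq hxLe haLe]
    exact nc_eq_one.2 hxa
  -- a common neighbour `d` of `x`, `a`, `e`
  have hd : ∃ u, Qe u = 1 ∧ QuadraticMap.polarBilin Qe u (fe x) = 0 ∧
      QuadraticMap.polarBilin Qe u (fe a) = 0 := by
    obtain ⟨k, hk, hks⟩ := exists_perp_not_mem (QuadraticMap.polarBilin Qe) ![fe x, fe a]
      (by omega)
    have hkx : QuadraticMap.polarBilin Qe k (fe x) = 0 := hk 0
    have hka : QuadraticMap.polarBilin Qe k (fe a) = 0 := hk 1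
    have hk0 : k ≠ 0 := by
      rintro rfl
      exact hks (Submodule.zero_mem _)
    obtain ⟨t, ht⟩ : ∃ t, QuadraticMap.polarBilin Qe t k ≠ 0 := by
      by_contra hcon
      push Not at hcon
      exact hk0 (Ce.nondeg' k hcon)
    have ht1 := z2_ne_zero ht
    obtain ⟨t', ht', htx, hta⟩ : ∃ t', QuadraticMap.polarBilin Qe t' k = 1 ∧
        QuadraticMap.polarBilin Qe t' (fe x) = 0 ∧ QuadraticMap.polarBilin Qe t' (fe a) = 0 := by
      refine ⟨t + QuadraticMap.polarBilin Qe t (fe a) • fe x +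
        QuadraticMap.polarBilin Qe t (fe x) • fe a, ?_, ?_, ?_⟩
      · simp only [map_add, LinearMap.add_apply, map_smul, LinearMap.smul_apply]
        rw [polar_symm (fe x) k, polar_symm (fe a) k, hkx, hka, ht1]
        simp
      · simp only [map_add, LinearMap.add_apply, map_smul, LinearMap.smul_apply]
        rw [polar_self, polar_symm (fe a) (fe x), hxaB]
        simp only [smul_eq_mul, mul_zero, mul_one, add_zero]
        exact z2_add_self _
      · simp only [map_add, LinearMap.add_apply, map_smul, LinearMap.smul_apply]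
        rw [polar_self, hxaB]
        simp only [smul_eq_mul, mul_zero, mul_one, add_zero]
        exact z2_add_self _
    rcases z2_cases (Qe k) with h1 | h1
    · rcases z2_cases (Qe t') with h2 | h2
      · refine ⟨t' + k, ?_, ?_, ?_⟩
        · rw [q_add, h1, h2, ht']; decide
        · rw [map_add, LinearMap.add_apply, htx, hkx, add_zero]
        · rw [map_add, LinearMap.add_apply, hta, hka, add_zero]
      · exact ⟨t', h2, htx, hta⟩
    · exact ⟨k, h1, hkx, hka⟩
  obtain ⟨u, hu1, hux, hua⟩ := hd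
  obtain ⟨d, hdLe, rfl⟩ := Ce.surj u hu1
  have hdx : Commute d x := by rw [← nc_eq_zero, ← Ce.polar_eq hdLe hxLe, hux]
  have hda : Commute d a := by rw [← nc_eq_zero, ← Ce.polar_eq hdLe haLe, hua]
  have hdD : d ∈ D := hdLe.1
  have hdne : d ≠ x := by
    rintro rfl
    exact hxa hda
  have hdLx : d ∈ Loc D x := ⟨hdD, hdne, hdx.symm⟩
  have heLd : e ∈ Loc D d := ⟨he, hdLe.2.1.symm, hdLe.2.2.symm⟩
  have hxLd : x ∈ Loc D d := ⟨hx, hdne.symm, hdx⟩
  have hane' : a ≠ d := by
    rintro rfl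
    exact hxa hdx.symm
  have haLd : a ∈ Loc D d := ⟨ha, hane', hda⟩
  obtain ⟨Qd, fd, Cd⟩ := isO_iff.1 (hloc d hdD)
  have hdeB : QuadraticMap.polarBilin Qx (fx d) (fx e) = 0 := by
    rw [Cx.polar_eq hdLx heLx]
    exact nc_eq_zero.2 hdLe.2.2.symm
  -- first vector
  obtain ⟨v1, hv1, hv1d, hv1e, hv1s⟩ : ∃ v1, Qx v1 = 1 ∧
      QuadraticMap.polarBilin Qx v1 (fx d) = 0 ∧ QuadraticMap.polarBilin Qx v1 (fx e) = 0 ∧
      v1 ∉ Submodule.span (ZMod 2) (Set.range ![fx d, fx e]) := by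
    obtain ⟨k, hk, hks⟩ := exists_perp_not_mem (QuadraticMap.polarBilin Qx) ![fx d, fx e]
      (by omega)
    have hkd : QuadraticMap.polarBilin Qx k (fx d) = 0 := hk 0
    have hke : QuadraticMap.polarBilin Qx k (fx e) = 0 := hk 1
    rcases z2_cases (Qx k) with h1 | h1
    · refine ⟨k + fx d, ?_, ?_, ?_, ?_⟩
      · rw [q_add, h1, Cx.one d hdLx, hkd]; decide
      · rw [map_add, LinearMap.add_apply, hkd, polar_self, add_zero]
      · rw [map_add, LinearMap.add_apply, hke, hdeB, add_zero]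
      · intro h2
        apply hks
        have h3 : fx d ∈ Submodule.span (ZMod 2) (Set.range ![fx d, fx e]) :=
          Submodule.subset_span ⟨0, rfl⟩
        have h4 := Submodule.add_mem _ h2 h3
        rwa [add_assoc, v_add_self, add_zero] at h4
    · exact ⟨k, h1, hkd, hke, hks⟩
  -- second vector
  obtain ⟨v2, hv2, hv2d, hv2e, hv21, hv2s⟩ : ∃ v2, Qx v2 = 1 ∧
      QuadraticMap.polarBilin Qx v2 (fx d) = 0 ∧ QuadraticMap.polarBilin Qx v2 (fx e) = 0 ∧
      QuadraticMap.polarBilin Qx v2 v1 = 0 ∧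
      v2 ∉ Submodule.span (ZMod 2) (Set.range ![fx d, fx e, v1]) := by
    obtain ⟨k, hk, hks⟩ := exists_perp_not_mem (QuadraticMap.polarBilin Qx) ![fx d, fx e, v1]
      (by omega)
    have hkd : QuadraticMap.polarBilin Qx k (fx d) = 0 := hk 0
    have hke : QuadraticMap.polarBilin Qx k (fx e) = 0 := hk 1
    have hk1 : QuadraticMap.polarBilin Qx k v1 = 0 := hk 2
    rcases z2_cases (Qx k) with h1 | h1
    · refine ⟨k + fx d, ?_, ?_, ?_, ?_, ?_⟩
      · rw [q_add, h1, Cx.one d hdLx, hkd]; decide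
      · rw [map_add, LinearMap.add_apply, hkd, polar_self, add_zero]
      · rw [map_add, LinearMap.add_apply, hke, hdeB, add_zero]
      · rw [map_add, LinearMap.add_apply, hk1, polar_symm, hv1d, add_zero]
      · intro h2
        apply hks
        have h3 : fx d ∈ Submodule.span (ZMod 2) (Set.range ![fx d, fx e, v1]) :=
          Submodule.subset_span ⟨0, rfl⟩
        have h4 := Submodule.add_mem _ h2 h3
        rwa [add_assoc, v_add_self, add_zero] at h4
    · exact ⟨k, h1, hkd, hke, hk1, hks⟩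
  obtain ⟨z1, hz1, rfl⟩ := Cx.surj v1 hv1
  obtain ⟨z2, hz2, rfl⟩ := Cx.surj v2 hv2
  have hq3 : Qx (fx z1 + fx z2 + fx d) = 1 := by
    rw [q_add, q_add, hv1, hv2, Cx.one d hdLx, map_add, LinearMap.add_apply, hv1d, hv2d,
      polar_symm (fx z1) (fx z2), hv21]
    decide
  obtain ⟨z3, hz3, hf3⟩ := Cx.surj _ hq3
  have hmd : fx d ∈ Submodule.span (ZMod 2) (Set.range ![fx d, fx e, fx z1]) :=
    Submodule.subset_span ⟨0, rfl⟩
  have hme : fx e ∈ Submodule.span (ZMod 2) (Set.range ![fx d, fx e, fx z1]) :=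
    Submodule.subset_span ⟨1, rfl⟩
  have hm1 : fx z1 ∈ Submodule.span (ZMod 2) (Set.range ![fx d, fx e, fx z1]) :=
    Submodule.subset_span ⟨2, rfl⟩
  have hmd' : fx d ∈ Submodule.span (ZMod 2) (Set.range ![fx d, fx e]) :=
    Submodule.subset_span ⟨0, rfl⟩
  have hme' : fx e ∈ Submodule.span (ZMod 2) (Set.range ![fx d, fx e]) :=
    Submodule.subset_span ⟨1, rfl⟩
  -- commutations of `z1, z2, z3` with `d`, `e`
  have hz1d : Commute z1 d := by rw [← nc_eq_zero, ← Cx.polar_eq hz1 hdLx, hv1d]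
  have hz1e : Commute z1 e := by rw [← nc_eq_zero, ← Cx.polar_eq hz1 heLx, hv1e]
  have hz2d : Commute z2 d := by rw [← nc_eq_zero, ← Cx.polar_eq hz2 hdLx, hv2d]
  have hz2e : Commute z2 e := by rw [← nc_eq_zero, ← Cx.polar_eq hz2 heLx, hv2e]
  have hz3d : Commute z3 d := by
    rw [← nc_eq_zero, ← Cx.polar_eq hz3 hdLx, hf3, map_add, map_add, LinearMap.add_apply,
      LinearMap.add_apply, hv1d, hv2d, polar_self]
    decide
  have hz3e : Commute z3 e := by
    rw [← nc_eq_zero, ← Cx.polar_eq hz3 heLx, hf3, map_add, map_add, LinearMap.add_apply,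
      LinearMap.add_apply, hv1e, hv2e, hdeB]
    decide
  have h12 : QuadraticMap.polarBilin Qx (fx z1) (fx z2) = 0 := by rw [polar_symm]; exact hv21
  have h13 : QuadraticMap.polarBilin Qx (fx z1) (fx z3) = 0 := by
    rw [hf3, map_add, map_add, polar_self, h12, hv1d]; decide
  have h23 : QuadraticMap.polarBilin Qx (fx z2) (fx z3) = 0 := by
    rw [hf3, map_add, map_add, polar_self, hv21, hv2d]; decide
  have hz12 : Commute z1 z2 := by rw [← nc_eq_zero, ← Cx.polar_eq hz1 hz2, h12]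
  have hz13 : Commute z1 z3 := by rw [← nc_eq_zero, ← Cx.polar_eq hz1 hz3, h13]
  have hz23 : Commute z2 z3 := by rw [← nc_eq_zero, ← Cx.polar_eq hz2 hz3, h23]
  -- distinctness
  have hz1ned : z1 ≠ d := by rintro rfl; exact hv1s hmd'
  have hz1nee : z1 ≠ e := by rintro rfl; exact hv1s hme'
  have hz2ned : z2 ≠ d := by rintro rfl; exact hv2s hmd
  have hz2nee : z2 ≠ e := by rintro rfl; exact hv2s hme
  have hz3ned : z3 ≠ d := by
    rintro rfl
    apply hv2s
    have h1 : fx z1 + fx z2 = 0 := by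
      have h2 : fx z1 + fx z2 + fx z3 + fx z3 = fx z3 + fx z3 := by rw [← hf3]
      rwa [add_assoc, v_add_self, add_zero] at h2
    rw [← v_add_eq_zero h1]
    exact hm1
  have hz3nee : z3 ≠ e := by
    rintro rfl
    apply hv2s
    have h1 : fx z2 = fx z3 + fx z1 + fx d := by
      rw [hf3]
      have h2 : fx z1 + fx z2 + fx d + fx z1 + fx d =
        fx z2 + (fx z1 + fx z1) + (fx d + fx d) := by abel
      rw [h2, v_add_self, v_add_self, add_zero, add_zero]
    rw [h1]
    exact Submodule.add_mem _ (Submodule.add_mem _ hme hm1) hmd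
  have hz1Ld : z1 ∈ Loc D d := ⟨hz1.1, hz1ned, hz1d.symm⟩
  have hz1Le : z1 ∈ Loc D e := ⟨hz1.1, hz1nee, hz1e.symm⟩
  have hz2Ld : z2 ∈ Loc D d := ⟨hz2.1, hz2ned, hz2d.symm⟩
  have hz2Le : z2 ∈ Loc D e := ⟨hz2.1, hz2nee, hz2e.symm⟩
  have hz3Ld : z3 ∈ Loc D d := ⟨hz3.1, hz3ned, hz3d.symm⟩
  have hz3Le : z3 ∈ Loc D e := ⟨hz3.1, hz3nee, hz3e.symm⟩
  -- the relation at `d`
  have hrel_d : fd z1 + fd z2 + fd z3 = fd x := by
    have h1 := transfer (D := D) hx hdx.symm hdne hdD Cx Cd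
      (Finset.univ : Finset (Fin 3)) ![z1, z2, z3]
      (by intro i _; fin_cases i <;> assumption)
      (by intro i _; fin_cases i <;> assumption)
      (c := 1) (by
        simp only [Fin.sum_univ_three, Matrix.cons_val_zero, Matrix.cons_val_one,
          Matrix.cons_val_two, Matrix.head_cons, Matrix.tail_cons, Matrix.cons_val, one_smul]
        rw [hf3]
        have h2 : fx z1 + fx z2 + (fx z1 + fx z2 + fx d) =
          (fx z1 + fx z1) + (fx z2 + fx z2) + fx d := by abel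
        rw [h2, v_add_self, v_add_self, add_zero, zero_add])
    simp only [Fin.sum_univ_three, Matrix.cons_val_zero, Matrix.cons_val_one,
      Matrix.cons_val_two, Matrix.head_cons, Matrix.tail_cons, Matrix.cons_val] at h1
    rcases h1 with h1 | h1
    · exfalso
      have h2 : Qd (fd z1 + fd z2 + fd z3) = 1 := by
        rw [q_add, q_add, Cd.one _ hz1Ld, Cd.one _ hz2Ld, Cd.one _ hz3Ld, map_add,
          LinearMap.add_apply, Cd.polar_eq hz1Ld hz2Ld, Cd.polar_eq hz1Ld hz3Ld,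
          Cd.polar_eq hz2Ld hz3Ld, nc_eq_zero.2 hz12, nc_eq_zero.2 hz13, nc_eq_zero.2 hz23]
        decide
      rw [h1, q_zero] at h2
      exact absurd h2 (by decide)
    · exact h1
  have hA : nc z1 a + nc z2 a + nc z3 a = 1 := by
    rw [← Cd.polar_eq hz1Ld haLd, ← Cd.polar_eq hz2Ld haLd, ← Cd.polar_eq hz3Ld haLd,
      ← LinearMap.add_apply, ← LinearMap.add_apply, ← map_add, ← map_add, hrel_d,
      Cd.polar_eq hxLd haLd]
    exact nc_eq_one.2 hxa
  -- the relation at `e`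
  have hrel_e : fe z1 + fe z2 + fe z3 + fe d = 0 := by
    have h1 := transfer (D := D) hx hex.symm hxne.symm he Cx Ce
      (Finset.univ : Finset (Fin 4)) ![z1, z2, z3, d]
      (by intro i _; fin_cases i <;> assumption)
      (by intro i _; fin_cases i <;> assumption)
      (c := 0) (by
        simp only [Fin.sum_univ_four, Matrix.cons_val_zero, Matrix.cons_val_one,
          Matrix.cons_val_two, Matrix.cons_val_three, Matrix.head_cons, Matrix.tail_cons,
          Matrix.cons_val, zero_smul]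
        rw [hf3]
        have h2 : fx z1 + fx z2 + (fx z1 + fx z2 + fx d) + fx d =
          (fx z1 + fx z1) + (fx z2 + fx z2) + (fx d + fx d) := by abel
        simp only [h2, v_add_self, add_zero])
    simp only [Fin.sum_univ_four, Matrix.cons_val_zero, Matrix.cons_val_one,
      Matrix.cons_val_two, Matrix.cons_val_three, Matrix.head_cons, Matrix.tail_cons,
      Matrix.cons_val] at h1
    rcases h1 with h1 | h1
    · exact h1
    · exfalso
      have h2 : Qe (fe z1 + fe z2 + fe z3 + fe d) = 0 := by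
        simp only [q_add, map_add, LinearMap.add_apply, Ce.one _ hz1Le, Ce.one _ hz2Le,
          Ce.one _ hz3Le, Ce.one _ hdLe, Ce.polar_eq hz1Le hz2Le, Ce.polar_eq hz1Le hz3Le,
          Ce.polar_eq hz2Le hz3Le, Ce.polar_eq hz1Le hdLe, Ce.polar_eq hz2Le hdLe,
          Ce.polar_eq hz3Le hdLe, nc_eq_zero.2 hz12, nc_eq_zero.2 hz13, nc_eq_zero.2 hz23,
          nc_eq_zero.2 hz1d, nc_eq_zero.2 hz2d, nc_eq_zero.2 hz3d]
        decide
      rw [h1, Ce.one x hxLe] at h2
      exact absurd h2 (by decide)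
  have hB : nc z1 a + nc z2 a + nc z3 a = 0 := by
    have h1 : nc z1 a + nc z2 a + nc z3 a + nc d a = 0 := by
      rw [← Ce.polar_eq hz1Le haLe, ← Ce.polar_eq hz2Le haLe, ← Ce.polar_eq hz3Le haLe,
        ← Ce.polar_eq hdLe haLe,
        ← LinearMap.add_apply, ← LinearMap.add_apply, ← LinearMap.add_apply, ← map_add, ← map_add,
        ← map_add, hrel_e, map_zero, LinearMap.zero_apply]
    rwa [nc_eq_zero.2 hda, add_zero] at h1
  rw [hA] at hB
  exact absurd hB (by decide)

end Cfsg.Agent.Fischer891.OUp
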