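import Cfsg.Agent.Fischer891.SpUp
import Cfsg.Agent.Fischer891.OUp
import Cfsg.Agent.Fischer480.Defs
import Cfsg.Agent.ThreeTrans375.Transitive

set_option autoImplicit false

/-!
# S0480: the fields `caseB` and `caseC` of `Fischer480.Main.Pieces`
-/

namespace Cfsg.Agent.Fischer891.Cases

open Cfsg Cfsg.Agent.Fischer480.Defs Cfsg.Agent.ThreeTransPolar.Basic

universe u

variable {G : Type u} [Group G] [Finite G] {D : Set G}

/-- the rank three package of a Fischer group -/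
theorem rk_of_fgroup (F : FGroup D) : Rk D :=
  rk_of_hyps F.sol F.perf F.cls
    (fun _ hx _ hy _ hy' => ThreeTrans375.Transitive.Dc_conj F.sol F.cls hx hy hy')

theorem isO_succ (F : FGroup D) {n : ℕ} (hn : 2 ≤ n) (hloc : ∀ x ∈ D, IsSp n (Loc D x)) :
    IsO (n + 1) D := SpUp.isO_of_locally_Sp (rk_of_fgroup F) hn hloc

theorem caseB (F : FGroup D) (n : ℕ) (hn : 2 ≤ n) (hloc : ∀ x ∈ D, IsSp n (Loc D x)) :
    InList D :=
  Or.inr (Or.inr (Or.inl ⟨n + 1, by omega, isO_succ F hn hloc⟩))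

theorem caseC (F : FGroup D) (n : ℕ) (hn : 4 ≤ n) (hloc : ∀ x ∈ D, IsO n (Loc D x)) :
    InList D :=
  (OUp.not_locally_O (rk_of_fgroup F) hn hloc).elim

end Cfsg.Agent.Fischer891.Cases
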