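import Cfsg.Agent.Fischer891.KerParity
import Cfsg.Agent.Fischer891.OUp

set_option autoImplicit false

/-!
# S0480: a simple group is not of type `O^ε(2n, 2)`
-/

namespace Cfsg.Agent.Fischer891.FinalO

open Cfsg Cfsg.Agent.Fischer480.Defs Cfsg.Agent.SporadicStructure.FischerSpace
open Cfsg.Agent.ThreeTransPolar.Basic Cfsg.Agent.Fischer891.Lin Cfsg.Agent.Fischer891.OUp
open Cfsg.Agent.Fischer891.Parity Cfsg.Agent.Fischer891.KerParity Module

/-- a nonzero vector orthogonal to fewer than `N` given ones -/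
theorem exists_perp_ne_zero {N m : ℕ} (B : LinearMap.BilinForm (ZMod 2) (Fin N → ZMod 2))
    (r : Fin m → Fin N → ZMod 2) (h : m < N) : ∃ u, (∀ i, B u (r i) = 0) ∧ u ≠ 0 := by
  let φ : (Fin N → ZMod 2) →ₗ[ZMod 2] (Fin m → ZMod 2) := LinearMap.pi fun i => B.flip (r i)
  have h1 := LinearMap.finrank_range_add_finrank_ker φ
  have h2 : Module.finrank (ZMod 2) (LinearMap.range φ) ≤ m := by
    have := Submodule.finrank_le (LinearMap.range φ)
    simpa using this
  have h3 : LinearMap.ker φ ≠ ⊥ := by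
    intro h4
    rw [h4, finrank_bot] at h1
    simp only [Module.finrank_fin_fun] at h1
    omega
  obtain ⟨u, hu, hu0⟩ := Submodule.exists_mem_ne_zero_of_ne_bot h3
  refine ⟨u, fun i => ?_, hu0⟩
  have := congrFun (LinearMap.mem_ker.1 hu) i
  simpa [φ] using this

variable {G : Type*} [Group G] {D : Set G} {n : ℕ}
  {Q : QuadraticForm (ZMod 2) (Fin (2 * n) → ZMod 2)} {f : G → Fin (2 * n) → ZMod 2}

/-- a vector with `Q = 1` orthogonal to two hyperbolic pairs -/
theorem exists_one_perp {E : Set G} (C : OChart n E Q f) (hn : 3 ≤ n) {e₁ f₁ e₂ f₂ : Fin (2 * n) → ZMod 2}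
    (h1 : QuadraticMap.polarBilin Q e₁ f₁ = 1) (h2 : QuadraticMap.polarBilin Q e₂ f₂ = 1)
    (h3 : QuadraticMap.polarBilin Q e₁ e₂ = 0) (h4 : QuadraticMap.polarBilin Q e₁ f₂ = 0)
    (h5 : QuadraticMap.polarBilin Q f₁ e₂ = 0) (h6 : QuadraticMap.polarBilin Q f₁ f₂ = 0) :
    ∃ w, Q w = 1 ∧ QuadraticMap.polarBilin Q w e₁ = 0 ∧ QuadraticMap.polarBilin Q w f₁ = 0 ∧
      QuadraticMap.polarBilin Q w e₂ = 0 ∧ QuadraticMap.polarBilin Q w f₂ = 0 := by
  obtain ⟨k, hk, hk0⟩ := exists_perp_ne_zero (QuadraticMap.polarBilin Q) ![e₁, f₁, e₂, f₂]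
    (by omega)
  have k1 : QuadraticMap.polarBilin Q k e₁ = 0 := hk 0
  have k2 : QuadraticMap.polarBilin Q k f₁ = 0 := hk 1
  have k3 : QuadraticMap.polarBilin Q k e₂ = 0 := hk 2
  have k4 : QuadraticMap.polarBilin Q k f₂ = 0 := hk 3
  obtain ⟨t, ht⟩ : ∃ t, QuadraticMap.polarBilin Q t k ≠ 0 := by
    by_contra hcon
    push Not at hcon
    exact hk0 (C.nondeg' k hcon)
  have ht1 := z2_ne_zero ht
  obtain ⟨s, hs, s1, s2, s3, s4⟩ : ∃ s, QuadraticMap.polarBilin Q s k = 1 ∧
      QuadraticMap.polarBilin Q s e₁ = 0 ∧ QuadraticMap.polarBilin Q s f₁ = 0 ∧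
      QuadraticMap.polarBilin Q s e₂ = 0 ∧ QuadraticMap.polarBilin Q s f₂ = 0 := by
    refine ⟨t + QuadraticMap.polarBilin Q t f₁ • e₁ + QuadraticMap.polarBilin Q t e₁ • f₁ +
      QuadraticMap.polarBilin Q t f₂ • e₂ + QuadraticMap.polarBilin Q t e₂ • f₂, ?_, ?_, ?_, ?_, ?_⟩
    · simp only [map_add, LinearMap.add_apply, map_smul, LinearMap.smul_apply,
        polar_symm e₁ k, polar_symm f₁ k, polar_symm e₂ k, polar_symm f₂ k, k1, k2, k3, k4, ht1]
      simp
    · simp only [map_add, LinearMap.add_apply, map_smul, LinearMap.smul_apply,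
        polar_self, polar_symm f₁ e₁, polar_symm e₂ e₁, polar_symm f₂ e₁, h1, h3, h4]
      simp only [smul_eq_mul, mul_zero, mul_one, add_zero]
      exact z2_add_self _
    · simp only [map_add, LinearMap.add_apply, map_smul, LinearMap.smul_apply,
        polar_self, polar_symm e₂ f₁, polar_symm f₂ f₁, h1, h5, h6]
      simp only [smul_eq_mul, mul_zero, mul_one, add_zero]
      exact z2_add_self _
    · simp only [map_add, LinearMap.add_apply, map_smul, LinearMap.smul_apply,
        polar_self, polar_symm f₂ e₂, h2, h3, h5]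
      simp only [smul_eq_mul, mul_zero, mul_one, add_zero]
      exact z2_add_self _
    · simp only [map_add, LinearMap.add_apply, map_smul, LinearMap.smul_apply,
        polar_self, h2, h4, h6]
      simp only [smul_eq_mul, mul_zero, mul_one, add_zero]
      exact z2_add_self _
  rcases z2_cases (Q k) with hq | hq
  · rcases z2_cases (Q s) with hq' | hq'
    · refine ⟨s + k, ?_, ?_, ?_, ?_, ?_⟩
      · rw [q_add, hq, hq', hs]; decide
      · rw [map_add, LinearMap.add_apply, s1, k1, add_zero]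
      · rw [map_add, LinearMap.add_apply, s2, k2, add_zero]
      · rw [map_add, LinearMap.add_apply, s3, k3, add_zero]
      · rw [map_add, LinearMap.add_apply, s4, k4, add_zero]
    · exact ⟨s, hq', s1, s2, s3, s4⟩
  · exact ⟨k, hq, k1, k2, k3, k4⟩

/-- the third point of a hyperbolic line is the sum -/
theorem third_eq (h : FData D) (C : OChart n D Q f) (hn : 3 ≤ n) {a b : G} (ha : a ∈ D)
    (hb : b ∈ D) (hab : ¬ Commute a b) : f (cj a b) = f a + f b := by
  have hs := cj_mem h hb (g := a)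
  have h1 : QuadraticMap.polarBilin Q (f a) (f b) = 1 := by
    rw [C.polar_eq ha hb]; exact nc_eq_one.2 hab
  have hsa : QuadraticMap.polarBilin Q (f a) (f (cj a b)) = 1 := by
    rw [C.polar_eq ha hs]
    exact nc_eq_one.2 fun h2 => not_commute_third h ha hab h2.symm
  have hsb : QuadraticMap.polarBilin Q (f b) (f (cj a b)) = 1 := by
    rw [C.polar_eq hb hs]
    refine nc_eq_one.2 fun h2 => ?_
    rw [third_comm h ha hb hab] at h2
    exact not_commute_third h hb (fun h3 => hab h3.symm) h2.symm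
  have key1 : ∀ u, Q u = 1 → QuadraticMap.polarBilin Q u (f a) = 0 →
      QuadraticMap.polarBilin Q u (f b) = 0 → QuadraticMap.polarBilin Q u (f (cj a b)) = 0 := by
    intro u hu hua hub
    obtain ⟨z, hz, rfl⟩ := C.surj u hu
    rw [C.polar_eq hz hs]
    rw [C.polar_eq hz ha, nc_eq_zero] at hua
    rw [C.polar_eq hz hb, nc_eq_zero] at hub
    exact nc_eq_zero.2 (commute_cj_of hua hub)
  have key : ∀ u, QuadraticMap.polarBilin Q u (f a) = 0 →
      QuadraticMap.polarBilin Q u (f b) = 0 → QuadraticMap.polarBilin Q u (f (cj a b)) = 0 := by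
    intro u hua hub
    rcases z2_cases (Q u) with hu | hu
    swap
    · exact key1 u hu hua hub
    by_cases hu0 : u = 0
    · rw [hu0]; simp
    obtain ⟨t, ht⟩ : ∃ t, QuadraticMap.polarBilin Q t u ≠ 0 := by
      by_contra hcon
      push Not at hcon
      exact hu0 (C.nondeg' u hcon)
    have ht1 := z2_ne_zero ht
    obtain ⟨t', ht', hta, htb⟩ : ∃ t', QuadraticMap.polarBilin Q t' u = 1 ∧
        QuadraticMap.polarBilin Q t' (f a) = 0 ∧ QuadraticMap.polarBilin Q t' (f b) = 0 := by
      refine ⟨t + QuadraticMap.polarBilin Q t (f b) • f a +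
        QuadraticMap.polarBilin Q t (f a) • f b, ?_, ?_, ?_⟩
      · simp only [map_add, LinearMap.add_apply, map_smul, LinearMap.smul_apply,
          polar_symm (f a) u, polar_symm (f b) u, hua, hub, ht1]
        simp
      · simp only [map_add, LinearMap.add_apply, map_smul, LinearMap.smul_apply, polar_self,
          polar_symm (f b) (f a), h1, smul_eq_mul, mul_zero, mul_one, add_zero]
        exact z2_add_self _
      · simp only [map_add, LinearMap.add_apply, map_smul, LinearMap.smul_apply, polar_self,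
          h1, smul_eq_mul, mul_zero, mul_one, add_zero]
        exact z2_add_self _
    obtain ⟨w, hw, hwa, hwb, hwu, -⟩ := exists_one_perp C hn (e₁ := f a) (f₁ := f b) (e₂ := u)
      (f₂ := t') h1 (by rw [polar_symm]; exact ht') (by rw [polar_symm]; exact hua)
      (by rw [polar_symm]; exact hta) (by rw [polar_symm]; exact hub)
      (by rw [polar_symm]; exact htb)
    have h2 := key1 w hw hwa hwb
    have h3 := key1 (w + u) (by rw [q_add, hw, hu, hwu]; decide)
      (by rw [map_add, LinearMap.add_apply, hwa, hua, add_zero])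
      (by rw [map_add, LinearMap.add_apply, hwb, hub, add_zero])
    rw [map_add, LinearMap.add_apply, h2, zero_add] at h3
    exact h3
  apply v_add_eq_zero
  refine C.nondeg' _ fun t => ?_
  have h2 := key (t + QuadraticMap.polarBilin Q t (f b) • f a +
      QuadraticMap.polarBilin Q t (f a) • f b) (by
      simp only [map_add, LinearMap.add_apply, map_smul, LinearMap.smul_apply, polar_self,
        polar_symm (f b) (f a), h1, smul_eq_mul, mul_zero, mul_one, add_zero]
      exact z2_add_self _) (by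
      simp only [map_add, LinearMap.add_apply, map_smul, LinearMap.smul_apply, polar_self,
        h1, smul_eq_mul, mul_zero, mul_one, add_zero]
      exact z2_add_self _)
  simp only [map_add, LinearMap.add_apply, map_smul, LinearMap.smul_apply, hsa, hsb,
    smul_eq_mul, mul_one] at h2
  simp only [map_add]
  rw [← h2]
  ring

/-- the transvection -/
def tv (Q : QuadraticForm (ZMod 2) (Fin (2 * n) → ZMod 2)) (u : Fin (2 * n) → ZMod 2) :
    (Fin (2 * n) → ZMod 2) →ₗ[ZMod 2] (Fin (2 * n) → ZMod 2) :=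
  LinearMap.id + ((QuadraticMap.polarBilin Q).flip u).smulRight u

theorem tv_apply (u v : Fin (2 * n) → ZMod 2) : tv Q u v = v + QuadraticMap.polar Q v u • u := rfl

theorem tv_tv (u v : Fin (2 * n) → ZMod 2) : tv Q u (tv Q u v) = v := by
  have h1 : QuadraticMap.polar Q u u = 0 := polar_self u
  rw [tv_apply, tv_apply, QuadraticMap.polar_add_left, QuadraticMap.polar_smul_left, h1,
    smul_eq_mul, mul_zero, add_zero, add_assoc, v_add_self, add_zero]

theorem q_tv {u : Fin (2 * n) → ZMod 2} (hu : Q u = 1) (v : Fin (2 * n) → ZMod 2) :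
    Q (tv Q u v) = Q v := by
  rw [tv_apply]
  rcases z2_cases (QuadraticMap.polar Q v u) with h | h
  · rw [h, zero_smul, add_zero]
  · have h' : QuadraticMap.polarBilin Q v u = 1 := h
    rw [h, one_smul, q_add, hu, h']
    generalize Q v = c
    revert c
    decide

/-- **A simple group is not of type `O`.** -/
theorem not_simple_of_isO [IsSimpleGroup G] (R : Rk D) (hn : 3 ≤ n) (hO : IsO n D) : False := by
  obtain ⟨Q, f, C⟩ := isO_iff.1 hO
  have h := R.fd
  obtain ⟨x, hx⟩ := h.nonempty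
  obtain ⟨a, ha, hxa⟩ := R.exCol x hx
  have hodd := odd_relation h.gen hx ha hxa
  have hconj : ∀ d ∈ D, ∀ y ∈ D, f (cj d y) = tv Q (f d) (f y) := by
    intro d hd y hy
    rw [tv_apply]
    by_cases hc : Commute d y
    · rw [cj_of_commute hc]
      have h1 : QuadraticMap.polar Q (f y) (f d) = 0 := (C.comm y hy d hd).1 hc.symm
      rw [h1, zero_smul, add_zero]
    · rw [third_eq h C hn hd hy hc]
      have h1 : QuadraticMap.polar Q (f y) (f d) = 1 := by
        apply z2_ne_zero
        intro h2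
        exact hc ((C.comm y hy d hd).2 h2).symm
      rw [h1, one_smul, add_comm]
  have key : ∀ p ∈ words D, ∃ γ : (Fin (2 * n) → ZMod 2) ≃ₗ[ZMod 2] (Fin (2 * n) → ZMod 2),
      (∀ v, Q (γ v) = Q v) ∧ (∀ y ∈ D, f (cj p.1 y) = γ (f y)) ∧
      p.2 = (-1) ^ finrank (ZMod 2) (fix γ.toLinearMap) := by
    have step : ∀ d ∈ D, ∀ q : G × ℤˣ, (∃ γ : (Fin (2 * n) → ZMod 2) ≃ₗ[ZMod 2] (Fin (2 * n) → ZMod 2),
        (∀ v, Q (γ v) = Q v) ∧ (∀ y ∈ D, f (cj q.1 y) = γ (f y)) ∧
        q.2 = (-1) ^ finrank (ZMod 2) (fix γ.toLinearMap)) →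
        ∃ γ : (Fin (2 * n) → ZMod 2) ≃ₗ[ZMod 2] (Fin (2 * n) → ZMod 2),
        (∀ v, Q (γ v) = Q v) ∧ (∀ y ∈ D, f (cj (d * q.1) y) = γ (f y)) ∧
        - q.2 = (-1) ^ finrank (ZMod 2) (fix γ.toLinearMap) := by
      rintro d hd q ⟨γ, h1, h2, h3⟩
      let τ : (Fin (2 * n) → ZMod 2) ≃ₗ[ZMod 2] (Fin (2 * n) → ZMod 2) :=
        LinearEquiv.ofInvolutive (tv Q (f d)) (tv_tv (f d))
      have hτ : ∀ v, τ v = tv Q (f d) v := fun v => rfl
      refine ⟨γ.trans τ, ?_, ?_, ?_⟩
      · intro v
        rw [LinearEquiv.trans_apply, hτ, q_tv (C.one d hd), h1]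
      · intro y hy
        rw [cj_mul, hconj d hd _ (cj_mem h hy), h2 y hy]
        rfl
      · have h4 := finrank_fix Q C.nondeg γ h1 (C.one d hd) (tv Q (f d)) (fun v => tv_apply _ v)
        have h5 : (γ.trans τ).toLinearMap = tv Q (f d) ∘ₗ γ.toLinearMap := rfl
        rw [h5]
        rcases h4 with h4 | h4
        · rw [h3, ← h4, pow_succ]
          simp
        · rw [h3, h4, pow_succ]
          simp
    intro p hp
    induction hp using Subgroup.closure_induction_left with
    | one =>
      refine ⟨LinearEquiv.refl _ _, fun v => rfl, fun y _ => ?_, ?_⟩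
      · show f (cj 1 y) = f y
        rw [cj_one]
      · have h1 : fix (LinearEquiv.refl (ZMod 2) (Fin (2 * n) → ZMod 2)).toLinearMap = ⊤ := by
          rw [eq_top_iff]
          intro v _
          rw [mem_fix]
          rfl
        rw [h1, finrank_top, Module.finrank_fin_fun, pow_mul]
        simp
    | mul_left p hp q hq ih =>
      obtain ⟨γ, h1, h2, h3⟩ := step p.1 hp.1 q ih
      refine ⟨γ, h1, h2, ?_⟩
      rw [← h3]
      show p.2 * q.2 = _
      rw [hp.2]
      simp
    | inv_mul_cancel p hp q hq ih =>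
      obtain ⟨γ, h1, h2, h3⟩ := step p.1 hp.1 q ih
      refine ⟨γ, h1, ?_, ?_⟩
      · intro y hy
        rw [← h2 y hy]
        show f (cj (p.1⁻¹ * q.1) y) = _
        rw [h.inv_eq hp.1]
      · rw [← h3]
        show p.2⁻¹ * q.2 = _
        rw [hp.2]
        simp
  obtain ⟨γ, h1, h2, h3⟩ := key _ hodd
  have h4 : ∀ v, Q v = 1 → γ v = v := by
    intro v hv
    obtain ⟨y, hy, rfl⟩ := C.surj v hv
    have h5 := h2 y hy
    rw [cj_one] at h5
    exact h5.symm
  have h5 : fix γ.toLinearMap = ⊤ := by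
    rw [eq_top_iff]
    intro v _
    rw [mem_fix]
    show γ v = v
    rcases z2_cases (Q v) with hv | hv
    swap
    · exact h4 v hv
    -- a vector with `Q = 1` orthogonal to `v`
    obtain ⟨w, hw, hvw⟩ : ∃ w, Q w = 1 ∧ QuadraticMap.polarBilin Q w v = 0 := by
      have e1 := C.one x hx
      have e2 := C.one a ha
      have e3 : QuadraticMap.polarBilin Q (f x) (f a) = 1 := by
        rw [C.polar_eq hx ha]; exact nc_eq_one.2 hxa
      rcases z2_cases (QuadraticMap.polarBilin Q (f x) v) with h6 | h6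
      · exact ⟨_, e1, h6⟩
      rcases z2_cases (QuadraticMap.polarBilin Q (f a) v) with h7 | h7
      · exact ⟨_, e2, h7⟩
      refine ⟨f x + f a, ?_, ?_⟩
      · rw [q_add, e1, e2, e3]; decide
      · rw [map_add, LinearMap.add_apply, h6, h7]; decide
    have h6 := h4 w hw
    have h7 := h4 (w + v) (by rw [q_add, hw, hv, hvw]; decide)
    rw [map_add, h6] at h7
    exact add_left_cancel h7
  rw [h5, finrank_top, Module.finrank_fin_fun, pow_mul] at h3
  simp at h3

end Cfsg.Agent.Fischer891.FinalO
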