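import Cfsg.Agent.Fischer891.SpUp
import Cfsg.Agent.Fischer3.SpCase

set_option autoImplicit false

/-!
# S0480: type `Sp(2n, 2)` gives the group `Sp(2n, 2)`
-/

namespace Cfsg.Agent.Fischer891.FinalSp

open Cfsg Cfsg.Agent.Fischer480.Defs Cfsg.Agent.SporadicStructure.FischerSpace
open Cfsg.Agent.ThreeTransPolar.Basic Cfsg.Agent.Fischer891.Lin Cfsg.Agent.Fischer891.SpUp

variable {G : Type*} [Group G] {D : Set G} {n : ℕ}

/-- vectors in the double perp of two vectors -/
theorem span_two {V : Type*} [AddCommGroup V] [Module (ZMod 2) V]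
    (B : LinearMap.BilinForm (ZMod 2) V) (hB : ∀ v, (∀ u, B u v = 0) → v = 0) {r s v : V}
    (h : ∀ u, B u r = 0 → B u s = 0 → B u v = 0) : v = 0 ∨ v = r ∨ v = s ∨ v = r + s := by
  by_cases hs : ∀ u, B u r = 0 → B u s = 0
  · -- `s ∈ {0, r}`
    have h1 : ∀ u, B u r = 0 → B u v = 0 := fun u hu => h u hu (hs u hu)
    rcases eq_zero_or_eq_of_perp B hB h1 with h2 | h2
    · exact Or.inl h2
    · exact Or.inr (Or.inl h2)
  · push Not at hs
    obtain ⟨t, htr, hts⟩ := hs
    have hts1 := z2_ne_zero hts
    -- `w = v` or `v + s`, orthogonal to everything orthogonal to `r`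
    have h1 : ∀ u, B u r = 0 → B u (v + B t v • s) = 0 := by
      intro u hu
      rw [map_add, map_smul, smul_eq_mul]
      rcases z2_cases (B u s) with h2 | h2
      · rw [h u hu h2, h2]; simp
      · have h3 := h (u + t) (by rw [map_add, LinearMap.add_apply, hu, htr, add_zero])
          (by rw [map_add, LinearMap.add_apply, h2, hts1]; decide)
        rw [map_add, LinearMap.add_apply] at h3
        rw [h2, mul_one]
        exact h3
    rcases eq_zero_or_eq_of_perp B hB h1 with h2 | h2
    · have h3 := v_add_eq_zero h2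
      rcases z2_cases (B t v) with h4 | h4
      · rw [h4, zero_smul] at h3
        exact Or.inl h3
      · rw [h4, one_smul] at h3
        exact Or.inr (Or.inr (Or.inl h3))
    · rcases z2_cases (B t v) with h4 | h4
      · rw [h4, zero_smul, add_zero] at h2
        exact Or.inr (Or.inl h2)
      · rw [h4, one_smul] at h2
        right; right; right
        rw [← h2, add_assoc, v_add_self, add_zero]

variable {B : LinearMap.BilinForm (ZMod 2) (Fin (2 * n) → ZMod 2)} {f : G → Fin (2 * n) → ZMod 2}

theorem double_perp (C : SpChart n D B f) {a b c : G} (hc : c ∈ D)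
    (ha : a ∈ D) (hb : b ∈ D)
    (h : ∀ d ∈ D, Commute d a → Commute d b → Commute d c) :
    f c = f a ∨ f c = f b ∨ f c = f a + f b := by
  have h1 : ∀ u, B u (f a) = 0 → B u (f b) = 0 → B u (f c) = 0 := by
    intro u hua hub
    by_cases hu0 : u = 0
    · rw [hu0]; simp
    obtain ⟨z, hz, rfl⟩ := C.surj u hu0
    rw [C.B_eq hz ha, nc_eq_zero] at hua
    rw [C.B_eq hz hb, nc_eq_zero] at hub
    rw [C.B_eq hz hc, nc_eq_zero]
    exact h z hz hua hub
  rcases span_two B C.nondeg' h1 with h2 | h2 | h2 | h2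
  · exact absurd h2 (C.ne c hc)
  · exact Or.inl h2
  · exact Or.inr (Or.inl h2)
  · exact Or.inr (Or.inr h2)

/-- **(4a)** -/
theorem exists_equiv_of_isSp [Finite G] (R : Rk D) (hS : IsSp n D) :
    ∃ m : ℕ, Nonempty (G ≃* Matrix.symplecticGroup (Fin m) (ZMod 2)) := by
  obtain ⟨B, f, C⟩ := isSp_iff.1 hS
  have h := R.fd
  have hyps : Fischer3.SpCase.Hyps D := by
    refine ⟨h, R.center, ?_, ?_, ?_, ?_⟩
    · intro x hx y hy hxy
      exact R.perp_sub x hx y hy fun d hd hdx => (hxy d hd).1 hdx
    · intro x hx y hy hne hc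
      have hne0 : f x + f y ≠ 0 := fun h1 => hne (C.inj x hx y hy (v_add_eq_zero h1))
      obtain ⟨z, hz, hfz⟩ := C.surj _ hne0
      have hzx : z ≠ x := by
        rintro rfl
        have h1 : f z + f z = f z + (f z + f y) := by rw [← hfz]
        rw [v_add_self, ← add_assoc, v_add_self, zero_add] at h1
        exact C.ne y hy h1.symm
      have hzy : z ≠ y := by
        rintro rfl
        have h1 : f z + f z = (f x + f z) + f z := by rw [← hfz]
        rw [v_add_self, add_assoc, v_add_self, add_zero] at h1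
        exact C.ne x hx h1.symm
      have hline : Fischer3.SpCase.Line D x y = {x, y, z} := by
        ext w
        constructor
        · rintro ⟨hw, hw'⟩
          rcases double_perp C hw hx hy hw' with h1 | h1 | h1
          · exact Or.inl (C.inj w hw x hx h1)
          · exact Or.inr (Or.inl (C.inj w hw y hy h1))
          · exact Or.inr (Or.inr (C.inj w hw z hz (by rw [h1, hfz])))
        · rintro (rfl | rfl | rfl)
          · exact Fischer3.SpCase.left_mem_line hx y
          · exact Fischer3.SpCase.right_mem_line x hy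
          · refine ⟨hz, fun d hd h1 h2 => ?_⟩
            rw [← nc_eq_zero, ← C.B_eq hd hz, hfz, map_add, C.B_eq hd hx, C.B_eq hd hy,
              nc_eq_zero.2 h1, nc_eq_zero.2 h2, add_zero]
      rw [hline, Set.ncard_eq_three]
      exact ⟨x, y, z, hne, hzx.symm, hzy.symm, rfl⟩
    · intro x hx y hy hne hc d hd
      by_cases hdx : Commute d x
      · exact ⟨x, Fischer3.SpCase.left_mem_line hx y, hdx⟩
      by_cases hdy : Commute d y
      · exact ⟨y, Fischer3.SpCase.right_mem_line x hy, hdy⟩
      have hne0 : f x + f y ≠ 0 := fun h1 => hne (C.inj x hx y hy (v_add_eq_zero h1))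
      obtain ⟨z, hz, hfz⟩ := C.surj _ hne0
      refine ⟨z, ⟨hz, fun e he h1 h2 => ?_⟩, ?_⟩
      · rw [← nc_eq_zero, ← C.B_eq he hz, hfz, map_add, C.B_eq he hx, C.B_eq he hy,
          nc_eq_zero.2 h1, nc_eq_zero.2 h2, add_zero]
      · rw [← nc_eq_zero, ← C.B_eq hd hz, hfz, map_add, C.B_eq hd hx, C.B_eq hd hy,
          nc_eq_one.2 hdx, nc_eq_one.2 hdy]
        decide
    · intro x hx y hy hxy z hz hz'
      have hc : cj x y ∈ D := cj_mem h hy
      have h3 : f (cj x y) = f x + f y := by
        rcases double_perp C hc hx hy (fun d _ h1 h2 => commute_cj_of h1 h2) with h1 | h1 | h1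
        · exact absurd (C.inj _ hc _ hx h1) (third_ne_left h hx hxy)
        · exact absurd (C.inj _ hc _ hy h1) (third_ne_right hxy)
        · exact h1
      rcases double_perp C hz hx hy hz' with h1 | h1 | h1
      · exact Or.inl (C.inj _ hz _ hx h1)
      · exact Or.inr (Or.inl (C.inj _ hz _ hy h1))
      · right; right
        rw [← cj_eq_mul h hx]
        exact C.inj _ hz _ hc (by rw [h1, h3])
  obtain ⟨m, e, -, -⟩ := Fischer3.SpCase.exists_equiv_sp hyps
  exact ⟨m, ⟨e⟩⟩

end Cfsg.Agent.Fischer891.FinalSp
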