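import Cfsg.Agent.Fischer891.Parity

set_option autoImplicit false

/-!
# S0480: parity of the dimension of the fixed space in characteristic two
-/

namespace Cfsg.Agent.Fischer891.KerParity

open Cfsg Cfsg.Agent.Fischer891.Lin Module

variable {V : Type*} [AddCommGroup V] [Module (ZMod 2) V] [FiniteDimensional (ZMod 2) V]

/-- fixed vectors -/
def fix (g : V →ₗ[ZMod 2] V) : Submodule (ZMod 2) V := LinearMap.ker (g - LinearMap.id)

theorem mem_fix {g : V →ₗ[ZMod 2] V} {v : V} : v ∈ fix g ↔ g v = v := by
  rw [fix, LinearMap.mem_ker, LinearMap.sub_apply, LinearMap.id_apply, sub_eq_zero]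

theorem finrank_inf_ker (K : Submodule (ZMod 2) V) (φ : V →ₗ[ZMod 2] ZMod 2)
    (h : ∃ k ∈ K, φ k ≠ 0) :
    finrank (ZMod 2) (K ⊓ LinearMap.ker φ : Submodule (ZMod 2) V) + 1 = finrank (ZMod 2) K := by
  obtain ⟨k, hk, hφ⟩ := h
  have h1 := LinearMap.finrank_range_add_finrank_ker (φ.domRestrict K)
  have h2 : LinearMap.range (φ.domRestrict K) = ⊤ := by
    rw [LinearMap.range_eq_top]
    intro c
    refine ⟨c • ⟨k, hk⟩, ?_⟩
    rw [map_smul, LinearMap.domRestrict_apply, z2_ne_zero hφ, smul_eq_mul, mul_one]
  have h3 : (LinearMap.ker (φ.domRestrict K)).map K.subtype = K ⊓ LinearMap.ker φ := by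
    ext v
    simp only [Submodule.mem_map, LinearMap.mem_ker, LinearMap.domRestrict_apply,
      Submodule.subtype_apply, Submodule.mem_inf]
    constructor
    · rintro ⟨w, hw, rfl⟩
      exact ⟨w.2, hw⟩
    · rintro ⟨h4, h5⟩
      exact ⟨⟨v, h4⟩, h5, rfl⟩
  have h4 : finrank (ZMod 2) (LinearMap.ker (φ.domRestrict K)) =
      finrank (ZMod 2) (K ⊓ LinearMap.ker φ : Submodule (ZMod 2) V) := by
    rw [← h3]
    exact (LinearEquiv.finrank_eq (Submodule.equivMapOfInjective _ K.injective_subtype _))
  rw [h2, finrank_top, finrank_self, h4] at h1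
  omega

/-- **The parity lemma.** -/
theorem finrank_fix (Q : QuadraticForm (ZMod 2) V)
    (hB : ∀ v, (∀ v', QuadraticMap.polar Q v v' = 0) → v = 0) (g : V ≃ₗ[ZMod 2] V)
    (hg : ∀ v, Q (g v) = Q v) {u : V} (hu : Q u = 1) (t : V →ₗ[ZMod 2] V)
    (ht : ∀ v, t v = v + QuadraticMap.polar Q v u • u) :
    finrank (ZMod 2) (fix (t ∘ₗ g.toLinearMap)) + 1 = finrank (ZMod 2) (fix g.toLinearMap) ∨
    finrank (ZMod 2) (fix (t ∘ₗ g.toLinearMap)) = finrank (ZMod 2) (fix g.toLinearMap) + 1 := by
  have hgB : ∀ v w, QuadraticMap.polar Q (g v) (g w) = QuadraticMap.polar Q v w := by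
    intro v w
    simp only [QuadraticMap.polar, ← map_add, hg]
  have hsymm : ∀ v w, QuadraticMap.polar Q v w = QuadraticMap.polar Q w v :=
    QuadraticMap.polar_comm Q
  have hadd : ∀ v w z, QuadraticMap.polar Q (v + w) z = QuadraticMap.polar Q v z +
      QuadraticMap.polar Q w z := fun v w z => QuadraticMap.polar_add_left Q v w z
  let φ : V →ₗ[ZMod 2] ZMod 2 := (QuadraticMap.polarBilin Q).flip u
  have hφ : ∀ v, φ v = QuadraticMap.polar Q v u := fun v => rfl
  have huu : QuadraticMap.polar Q u u = 0 := by
    rw [QuadraticMap.polar, v_add_self, map_zero, hu]; decide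
  have hQ0 : ∀ v w, Q (v + w) = Q v + Q w + QuadraticMap.polar Q v w := by
    intro v w
    simp only [QuadraticMap.polar]
    ring
  by_cases hK : ∃ k ∈ fix g.toLinearMap, φ k ≠ 0
  · left
    obtain ⟨k, hk, hku⟩ := hK
    have h1 : fix (t ∘ₗ g.toLinearMap) = fix g.toLinearMap ⊓ LinearMap.ker φ := by
      ext v
      rw [mem_fix, Submodule.mem_inf, mem_fix, LinearMap.mem_ker, hφ]
      show t (g v) = v ↔ g v = v ∧ _
      rw [ht]
      rw [mem_fix] at hk
      have hk' : g k = k := hk
      constructor
      · intro h2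
        rcases z2_cases (QuadraticMap.polar Q (g v) u) with h3 | h3
        · rw [h3, zero_smul, add_zero] at h2
          rw [h2] at h3
          exact ⟨h2, h3⟩
        · exfalso
          rw [h3, one_smul] at h2
          apply hku
          rw [hφ]
          have h4 : QuadraticMap.polar Q (g v + u) k = QuadraticMap.polar Q v k := by rw [h2]
          have h5 : QuadraticMap.polar Q (g v) k = QuadraticMap.polar Q v k := by
            rw [← hgB v k, hk']
          rw [hadd, h5] at h4
          rw [hsymm]
          have h6 : QuadraticMap.polar Q v k + QuadraticMap.polar Q u k =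
            QuadraticMap.polar Q v k + 0 := by rw [h4, add_zero]
          exact add_left_cancel h6
      · rintro ⟨h2, h3⟩
        rw [h2, h3, zero_smul, add_zero]
    rw [h1]
    exact finrank_inf_ker _ φ ⟨k, hk, hku⟩
  · right
    push Not at hK
    -- `u` is in the range of `g - 1`
    have hrange : u ∈ LinearMap.range (g.toLinearMap - LinearMap.id) := by
      have hnd : (QuadraticMap.polarBilin Q).Nondegenerate := by
        constructor
        · intro v hv
          exact hB v fun v' => hv v'
        · intro v hv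
          refine hB v fun v' => ?_
          rw [hsymm]
          exact hv v'
      have hrefl : (QuadraticMap.polarBilin Q).IsRefl := by
        intro v w hvw
        show QuadraticMap.polar Q w v = 0
        rw [hsymm]
        exact hvw
      have h1 := LinearMap.finrank_range_add_finrank_ker (g.toLinearMap - LinearMap.id)
      have h2 : LinearMap.range (g.toLinearMap - LinearMap.id) ≤
          LinearMap.BilinForm.orthogonal (QuadraticMap.polarBilin Q) (fix g.toLinearMap) := by
        rintro _ ⟨v, rfl⟩
        rw [LinearMap.BilinForm.mem_orthogonal_iff]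
        intro k hk
        rw [mem_fix] at hk
        have hk' : g k = k := hk
        show QuadraticMap.polar Q k (g v - v) = 0
        rw [sub_eq_add_neg, QuadraticMap.polar_add_right, QuadraticMap.polar_neg_right]
        rw [← hgB k v, hk']
        ring
      have h3 : LinearMap.range (g.toLinearMap - LinearMap.id) =
          LinearMap.BilinForm.orthogonal (QuadraticMap.polarBilin Q) (fix g.toLinearMap) := by
        refine Submodule.eq_of_le_of_finrank_eq h2 ?_
        rw [LinearMap.BilinForm.finrank_orthogonal hnd]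
        have h4 : finrank (ZMod 2) (fix g.toLinearMap) = finrank (ZMod 2)
          (LinearMap.ker (g.toLinearMap - LinearMap.id)) := rfl
        rw [h4]
        omega
      rw [h3, LinearMap.BilinForm.mem_orthogonal_iff]
      intro k hk
      exact hK k hk
    obtain ⟨v₀, hv₀⟩ := hrange
    have hv₁ : g v₀ = v₀ + u := by
      have h1 : g v₀ - v₀ = u := hv₀
      rw [← h1]; abel
    have hv₂ : QuadraticMap.polar Q v₀ u = 1 := by
      have h1 := hg v₀
      rw [hv₁, hQ0, hu] at h1
      rcases z2_cases (QuadraticMap.polar Q v₀ u) with h2 | h2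
      · rw [h2, add_zero] at h1
        exfalso
        revert h1
        generalize Q v₀ = c
        revert c
        decide
      · exact h2
    let φ' : V →ₗ[ZMod 2] ZMod 2 := φ ∘ₗ g.toLinearMap
    have hφ' : ∀ v, φ' v = QuadraticMap.polar Q (g v) u := fun v => rfl
    have h1 : fix g.toLinearMap = fix (t ∘ₗ g.toLinearMap) ⊓ LinearMap.ker φ' := by
      ext v
      rw [mem_fix, Submodule.mem_inf, mem_fix, LinearMap.mem_ker, hφ']
      show g v = v ↔ t (g v) = v ∧ _
      rw [ht]
      constructor
      · intro h2
        have h3 : QuadraticMap.polar Q (g v) u = 0 := by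
          have := hK v (mem_fix.2 h2)
          rw [hφ] at this
          rw [h2, this]
        rw [h3, zero_smul, add_zero]
        exact ⟨h2, rfl⟩
      · rintro ⟨h2, h3⟩
        rwa [h3, zero_smul, add_zero] at h2
    rw [h1]
    refine (finrank_inf_ker _ φ' ⟨v₀, ?_, ?_⟩).symm
    · rw [mem_fix]
      show t (g v₀) = v₀
      rw [ht, hv₁, hadd, huu, hv₂, add_zero, one_smul, add_assoc, v_add_self, add_zero]
    · rw [hφ', hv₁, hadd, huu, hv₂]
      decide

end Cfsg.Agent.Fischer891.KerParity
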