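import Mathlib
import Cfsg.Agent.Fischer480.Defs
import Cfsg.Agent.ThreeTransPolar.Basic

set_option autoImplicit false

/-!
# S0480: linear algebra over the field with two elements for the pieces (B) and (C)
-/

namespace Cfsg.Agent.Fischer891.Lin

open Cfsg Cfsg.Agent.Fischer480.Defs Cfsg.Agent.SporadicStructure.FischerSpace
open Cfsg.Agent.ThreeTransPolar.Basic

/-! ### Generalities on `ZMod 2` -/

theorem z2_cases (c : ZMod 2) : c = 0 ∨ c = 1 := by
  revert c; decide

theorem z2_ne_zero {c : ZMod 2} (h : c ≠ 0) : c = 1 := by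
  rcases z2_cases c with h1 | h1
  · exact absurd h1 h
  · exact h1

theorem z2_add_self (c : ZMod 2) : c + c = 0 := by
  revert c; decide

section Vec

variable {V : Type*} [AddCommGroup V] [Module (ZMod 2) V]

theorem v_add_self (v : V) : v + v = 0 := by
  have : ((1 : ZMod 2) + 1) • v = v + v := by rw [add_smul, one_smul]
  rw [← this]
  have h : (1 : ZMod 2) + 1 = 0 := by decide
  rw [h, zero_smul]

theorem v_add_eq_zero {v w : V} (h : v + w = 0) : v = w := by
  have h1 : v + w + w = w := by rw [h, zero_add]
  rwa [add_assoc, v_add_self, add_zero] at h1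

/-- double orthogonal of a vector -/
theorem eq_zero_or_eq_of_perp (B : LinearMap.BilinForm (ZMod 2) V)
    (hB : ∀ v, (∀ u, B u v = 0) → v = 0) {r s : V} (h : ∀ u, B u r = 0 → B u s = 0) :
    s = 0 ∨ s = r := by
  by_cases hr : ∀ u, B u r = 0
  · exact Or.inl (hB s fun u => h u (hr u))
  · push Not at hr
    obtain ⟨t, ht⟩ := hr
    have ht1 := z2_ne_zero ht
    rcases z2_cases (B t s) with hc | hc
    · left
      refine hB s fun u => ?_
      rcases z2_cases (B u r) with h1 | h1
      · exact h u h1
      · have h2 : B (u + t) r = 0 := by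
          rw [map_add, LinearMap.add_apply, h1, ht1]; decide
        have h3 := h _ h2
        rwa [map_add, LinearMap.add_apply, hc, add_zero] at h3
    · right
      apply v_add_eq_zero
      refine hB _ fun u => ?_
      rw [map_add]
      rcases z2_cases (B u r) with h1 | h1
      · rw [h u h1, h1, add_zero]
      · have h2 : B (u + t) r = 0 := by
          rw [map_add, LinearMap.add_apply, h1, ht1]; decide
        have h3 := h _ h2
        rw [map_add, LinearMap.add_apply, hc] at h3
        rw [h1]
        exact h3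

/-- a vector orthogonal to few given ones and not in their span -/
theorem exists_perp_not_mem {N m : ℕ} (B : LinearMap.BilinForm (ZMod 2) (Fin N → ZMod 2))
    (r : Fin m → Fin N → ZMod 2) (h : 2 * m < N) :
    ∃ u, (∀ i, B u (r i) = 0) ∧ u ∉ Submodule.span (ZMod 2) (Set.range r) := by
  let φ : (Fin N → ZMod 2) →ₗ[ZMod 2] (Fin m → ZMod 2) := LinearMap.pi fun i => B.flip (r i)
  have h1 := LinearMap.finrank_range_add_finrank_ker φ
  have h2 : Module.finrank (ZMod 2) (LinearMap.range φ) ≤ m := by
    have := Submodule.finrank_le (LinearMap.range φ)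
    simpa using this
  have h3 : Module.finrank (ZMod 2) (Submodule.span (ZMod 2) (Set.range r)) ≤ m := by
    have := finrank_range_le_card (R := ZMod 2) r
    simpa [Set.finrank] using this
  have h4 : ¬ LinearMap.ker φ ≤ Submodule.span (ZMod 2) (Set.range r) := by
    intro hle
    have := Submodule.finrank_mono hle
    simp only [Module.finrank_fin_fun] at h1
    omega
  obtain ⟨u, hu, hus⟩ := SetLike.not_le_iff_exists.1 h4
  refine ⟨u, fun i => ?_, hus⟩
  have := congrFun (LinearMap.mem_ker.1 hu) i
  simpa [φ] using this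

end Vec

section Rank

variable {G : Type*} [Group G] {D : Set G}

theorem exists_common (R : Rk D) {x a : G} (hx : x ∈ D) (ha : a ∈ D) (hxa : ¬ Commute x a) :
    ∃ y ∈ D, Commute y x ∧ Commute y a := by
  obtain ⟨x0, hx0, w0, hw0, d0, hd0, h1, h2, h3⟩ := R.exNonPerp
  obtain ⟨g, hg⟩ := R.fd.single x0 hx0 x hx
  have hg' : cj g x0 = x := hg
  have h4 : ¬ Commute x (cj g w0) := by rw [← hg', commute_cj]; exact h1
  obtain ⟨k, hk1, hk2⟩ := R.colTrans x hx (cj g w0) (cj_mem R.fd hw0) a ha h4 hxa
  refine ⟨cj k (cj g d0), cj_mem R.fd (cj_mem R.fd hd0), ?_, ?_⟩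
  · rw [← hk1, commute_cj, ← hg', commute_cj]; exact h2
  · rw [← hk2, commute_cj, commute_cj]; exact h3

/-- noncommutation as an element of `ZMod 2` -/
noncomputable def nc (a b : G) : ZMod 2 := by
  classical exact if Commute a b then 0 else 1

theorem nc_eq_zero {a b : G} : nc a b = 0 ↔ Commute a b := by
  unfold nc
  split_ifs with h
  · simp [h]
  · simp [h]

theorem nc_eq_one {a b : G} : nc a b = 1 ↔ ¬ Commute a b := by
  unfold nc
  split_ifs with h
  · simp [h]
  · simp [h]

theorem nc_eq_of {a b : G} {c : ZMod 2} (h : Commute a b ↔ c = 0) : c = nc a b := by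
  rcases z2_cases c with hc | hc
  · rw [hc, eq_comm, nc_eq_zero, h, hc]
  · rw [hc, eq_comm, nc_eq_one, h, hc]; decide

theorem nc_comm (a b : G) : nc a b = nc b a := by
  rcases z2_cases (nc a b) with h | h
  · rw [h, eq_comm, nc_eq_zero]; exact (nc_eq_zero.1 h).symm
  · rw [h, eq_comm, nc_eq_one]; exact fun h1 => nc_eq_one.1 h h1.symm

end Rank

end Cfsg.Agent.Fischer891.Lin
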