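import Cfsg.Agent.Fischer891.Lin

set_option autoImplicit false

/-!
# S0480: a simple group is not generated by involutions without odd relations
-/

namespace Cfsg.Agent.Fischer891.Parity

open Cfsg Cfsg.Agent.Fischer480.Defs Cfsg.Agent.SporadicStructure.FischerSpace
open Cfsg.Agent.ThreeTransPolar.Basic Cfsg.Agent.Fischer891.Lin

variable {G : Type*} [Group G] {D : Set G}

/-- the words in `D` with their signs -/
def words (D : Set G) : Subgroup (G × ℤˣ) := Subgroup.closure {p | p.1 ∈ D ∧ p.2 = -1}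

theorem mem_words {d : G} (hd : d ∈ D) : (d, (-1 : ℤˣ)) ∈ words D :=
  Subgroup.subset_closure ⟨hd, rfl⟩

theorem exists_words (hgen : Subgroup.closure D = ⊤) (g : G) : ∃ ε : ℤˣ, (g, ε) ∈ words D := by
  have hg : g ∈ Subgroup.closure D := by rw [hgen]; trivial
  induction hg using Subgroup.closure_induction with
  | mem x hx => exact ⟨-1, mem_words hx⟩
  | one => exact ⟨1, Subgroup.one_mem _⟩
  | mul x y _ _ hx hy =>
    obtain ⟨a, ha⟩ := hx
    obtain ⟨b, hb⟩ := hy
    exact ⟨a * b, Subgroup.mul_mem _ ha hb⟩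
  | inv x _ hx =>
    obtain ⟨a, ha⟩ := hx
    exact ⟨a⁻¹, Subgroup.inv_mem _ ha⟩

/-- A simple group generated by `D`, with two members of `D` which do not commute, has an odd
relation. -/
theorem odd_relation [IsSimpleGroup G] (hgen : Subgroup.closure D = ⊤) {x y : G} (hx : x ∈ D)
    (hy : y ∈ D) (hxy : ¬ Commute x y) : ((1 : G), (-1 : ℤˣ)) ∈ words D := by
  by_contra hcon
  let N : Subgroup G := (words D).comap (MonoidHom.inl G ℤˣ)
  have hN : ∀ g, g ∈ N ↔ (g, (1 : ℤˣ)) ∈ words D := fun g => Iff.rfl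
  have hnorm : N.Normal := by
    constructor
    intro n hn g
    rw [hN] at hn ⊢
    obtain ⟨ε, hε⟩ := exists_words hgen g
    have h1 := Subgroup.mul_mem _ (Subgroup.mul_mem _ hε hn) (Subgroup.inv_mem _ hε)
    have h2 : (g, ε) * (n, (1 : ℤˣ)) * (g, ε)⁻¹ = (g * n * g⁻¹, (1 : ℤˣ)) := by
      ext
      · rfl
      · simp
    rwa [h2] at h1
  rcases hnorm.eq_bot_or_eq_top with h | h
  · have h1 : x * y⁻¹ ∈ N := by
      rw [hN]
      have h2 := Subgroup.mul_mem _ (mem_words hx) (Subgroup.inv_mem _ (mem_words hy))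
      have h3 : (x, (-1 : ℤˣ)) * (y, (-1 : ℤˣ))⁻¹ = (x * y⁻¹, (1 : ℤˣ)) := by
        ext
        · rfl
        · simp
      rwa [h3] at h2
    rw [h, Subgroup.mem_bot, mul_inv_eq_one] at h1
    rw [h1] at hxy
    exact hxy (Commute.refl _)
  · have h1 : x ∈ N := by rw [h]; trivial
    rw [hN] at h1
    apply hcon
    have h2 := Subgroup.mul_mem _ (mem_words hx) (Subgroup.inv_mem _ h1)
    have h3 : (x, (-1 : ℤˣ)) * (x, (1 : ℤˣ))⁻¹ = (1, (-1 : ℤˣ)) := by
      ext
      · simp
      · simp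
    rwa [h3] at h2

end Cfsg.Agent.Fischer891.Parity
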